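import Cfsg.Agent.Lib.McLFus.Data
import Cfsg.Agent.Lib.McLStab.Basic
import Cfsg.Agent.Lib.FusionSimple2.Codes
import Cfsg.Agent.Lib.FusionSimple2.Abstract

/-!
# The `2`-fusion system of the McLaughlin group is simple

A Sylow `2`-subgroup is self-normalizing and generated by involutions, all conjugate to its central involution.
-/

set_option autoImplicit false
set_option maxRecDepth 100000

namespace Cfsg.Agent.Lib.McLFus

open Cfsg Subgroup
open _root_.Cfsg.Agent.Lib.PermComp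
open _root_.Cfsg.Agent.Lib.PermComp.Core
open Cfsg.Agent.Lib.McLFus.Data Cfsg.Agent.Lib.LeechP.McL Cfsg.Agent.Lib.McLStab
open Cfsg.Agent.Lib.FusionSimple2.Codes Cfsg.Agent.Lib.FusionSimple2.Abstract

local notation "RR" => Rep 9 511 (Equiv.refl (Fin 275))
local notation "HH" => H 9 511 (Equiv.refl (Fin 275))
local notation "QQ" => Equiv.Perm (Fin 275)

/-- The abstract statement, for a group isomorphic to a subgroup of an ambient group. -/
theorem simple_of_equiv {G Γ : Type*} [Group G] [Finite G] [Group Γ] (M S₁ : Subgroup Γ) (hle : S₁ ≤ M) {k m : ℕ}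
    (hcard : Nat.card S₁ = 2 ^ k) (hM : Nat.card M = 2 ^ k * m) (hm : Odd m) (hne : S₁ ≠ ⊥)
    (hN : ∀ g ∈ M, (∀ s ∈ S₁, g * s * g⁻¹ ∈ S₁) → g ∈ S₁)
    (hT : ∀ T : Subgroup Γ, T ≤ S₁ → T ≠ ⊥ → (∀ x ∈ T, ∀ g ∈ M, g * x * g⁻¹ ∈ S₁ → g * x * g⁻¹ ∈ T) → T = S₁)
    (e : G ≃* M) (S : Sylow 2 G) : (groupFusionSystem (S : Subgroup G)).IsSimple 2 := by
  have hfac : (Nat.card G).factorization 2 = k := by
    have hm0 : m ≠ 0 := by
      rintro rfl
      simp at hm
    rw [Nat.card_congr e.toEquiv, hM, Nat.factorization_mul (by positivity) hm0,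
      Nat.Prime.factorization_pow Nat.prime_two]
    have : m.factorization 2 = 0 := Nat.factorization_eq_zero_of_not_dvd (by
      intro h
      exact (Nat.not_even_iff_odd.2 hm) (even_iff_two_dvd.2 h))
    simp [this]
  let ι : G →* Γ := M.subtype.comp e.toMonoidHom
  have hι : Function.Injective ι := by
    intro a b hab
    exact e.injective (Subtype.ext hab)
  have hs : ∀ m ∈ M, ∃ x, ι x = m := by
    intro m hm'
    refine ⟨e.symm ⟨m, hm'⟩, ?_⟩
    show ((e (e.symm ⟨m, hm'⟩) : M) : Γ) = m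
    rw [MulEquiv.apply_symm_apply]
  have hr : ∀ x, ι x ∈ M := fun x => (e x).2
  let U : Subgroup G := S₁.comap ι
  have hmap : U.map ι = S₁ := by
    ext x
    constructor
    · rintro ⟨y, hy, rfl⟩
      exact hy
    · intro hx
      obtain ⟨y, rfl⟩ := hs x (hle hx)
      exact ⟨y, hx, rfl⟩
  have hU : Nat.card U = 2 ^ (Nat.card G).factorization 2 := by
    rw [hfac, ← hcard, ← hmap, Subgroup.card_map_of_injective hι]
  let P : Sylow 2 G := Sylow.ofCard U hU
  have memP : ∀ x, x ∈ (P : Subgroup G) ↔ ι x ∈ S₁ := by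
    intro x
    rw [Sylow.coe_ofCard, Subgroup.mem_comap]
  have hcon : ∀ g x : G, ι (g * x * g⁻¹) = ι g * ι x * (ι g)⁻¹ := by
    intro g x
    simp
  refine Cfsg.Agent.Lib.FusionSimple.Basic.simple_of_one_sylow P ?_ ?_ ?_ S
  · intro h
    apply hne
    rw [eq_bot_iff]
    intro x hx
    obtain ⟨y, rfl⟩ := hs x (hle hx)
    have h1 : y ∈ (P : Subgroup G) := (memP y).2 hx
    rw [h, Subgroup.mem_bot] at h1
    rw [h1, map_one, Subgroup.mem_bot]
  · intro g hg
    rw [memP]
    apply hN _ (hr g)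
    intro s hs'
    obtain ⟨y, rfl⟩ := hs s (hle hs')
    rw [← hcon, ← memP]
    exact hg y ((memP y).2 hs')
  · intro T hTP hT1 hcl
    have hT' := hT (T.map ι) ?_ ?_ ?_
    · ext x
      constructor
      · exact fun hx => hTP hx
      · intro hx
        have h1 : ι x ∈ T.map ι := by
          rw [hT']
          exact (memP x).1 hx
        obtain ⟨y, hy, hyx⟩ := h1
        rwa [← hι hyx]
    · rintro _ ⟨y, hy, rfl⟩
      exact (memP y).1 (hTP hy)
    · intro h
      apply hT1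
      rw [eq_bot_iff]
      intro y hy
      have h1 : ι y ∈ T.map ι := ⟨y, hy, rfl⟩
      rw [h, Subgroup.mem_bot] at h1
      rw [Subgroup.mem_bot]
      exact hι (h1.trans (map_one ι).symm)
    · rintro _ ⟨y, hy, rfl⟩ g hg hgy
      obtain ⟨h, rfl⟩ := hs g hg
      rw [← hcon] at hgy ⊢
      exact ⟨_, hcl y hy h ((memP _).2 hgy), rfl⟩

/-! ### Codes -/

theorem rep_val {c : ℕ} {g : QQ} (h : RR c g) (x : Fin 275) : (g x : ℕ) = app 9 511 c x := by
  have := h x
  simp only [Equiv.refl_apply] at this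
  exact this.symm

/-- The word of the inverse. -/
noncomputable def invW (w : List ℕ) : List ℕ := w.reverse.map (fun a => (a + 2) % 4)

/-- The code of a conjugate. -/
noncomputable def cjc (w : List ℕ) (a : ℕ) : ℕ :=
  comp 275 9 511 (comp 275 9 511 (wc w) a) (wc (invW w))

/-- A valid word with the inverse given by `invW`. -/
noncomputable def wOK (w : List ℕ) : Bool :=
  ifB (w.all (fun a => Nat.blt a 4)) (Nat.beq (comp 275 9 511 (wc (invW w)) (wc w)) idc)

theorem cj_rep {w : List ℕ} (hw : wOK w = true) {a : ℕ} {A : QQ} (hA : RR a A) :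
    ∃ g ∈ PP, RR (wc w) g ∧ RR (cjc w a) (g * A * g⁻¹) := by
  simp only [wOK, ifB_eq_true] at hw
  obtain ⟨h1, h2⟩ := hw
  obtain ⟨g, hg, hr⟩ := wc_rep w h1
  have hinv : RR (wc (invW w)) g⁻¹ := Rep.inv hm9 hid9 hr (Nat.eq_of_beq_eq_true h2)
  exact ⟨g, hg, hr, (hr.comp hm9 hA).comp hm9 hinv⟩

/-- The points. -/
noncomputable def rng : List ℕ := List.range 275

theorem mem_rng {x : ℕ} : x ∈ rng ↔ x < 275 := List.mem_range

/-- Kernel friendly `Nodup`. -/
noncomputable def nodupN : List Nat → Bool :=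
  fun l => List.rec true (fun a t ih => ifB (!(memN a t)) ih) l

theorem nodupN_spec {l : List Nat} (h : nodupN l = true) : l.Nodup := by
  induction l with
  | nil => exact List.nodup_nil
  | cons a t ih =>
    have h' : ifB (!(memN a t)) (nodupN t) = true := h
    rw [ifB_eq_true] at h'
    refine List.nodup_cons.2 ⟨?_, ih h'.2⟩
    intro hm
    rw [← memN_eq_true] at hm
    rw [hm] at h'
    exact Bool.noConfusion h'.1

theorem chk_wz : wc wz = zc := by decide +kernel

theorem chk_sg : sgens = conjW.map Prod.fst := by decide +kernel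

theorem chk_conj : allL (fun e => ifB (wOK e.2) (Nat.beq (cjc e.2 zc) e.1)) conjW = true := by
  decide +kernel

theorem chk_L0 : eqL L0 (prodL 275 9 511 idc sgens) = true := by decide +kernel

theorem chk_clos : closOK 275 9 511 L0 sgens = true := by decide +kernel

/-- The key points. -/
def kpts : List ℕ := [156, 2, 1, 3, 5]

theorem chk_key : nodupN (L0.map (keyOf 9 511 kpts)) = true := by decide +kernel

theorem chk_cent : centOK 9 511 idc zc sgens rng L0 = true := by decide +kernel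

theorem chk_fix : allL (fun c => Nat.beq (app 9 511 c 0) 0) L0 = true := by decide +kernel

theorem chk_uniq : allL (fun x => orC (Nat.beq x 0) (anyL (fun a => neB (app 9 511 a x) x) sgens))
    rng = true := by decide +kernel

theorem chk_B1 : allL (fun c => orC (Nat.beq (app 9 511 c 156) 156) (Nat.beq (app 9 511 c 156) 262)) L0
    = true := by decide +kernel

/-- Three points in the orbit of `x`. -/
noncomputable def threeOK (x : ℕ) : Bool :=
  anyL (fun c => force (app 9 511 c x) fun v => ifB (neB v x)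
    (anyL (fun d => force (app 9 511 d x) fun u => ifB (neB u x) (neB u v)) L0)) L0

theorem chk_B2 : allL (fun x => orC (Nat.beq x 0) (orC (Nat.beq x 156) (orC (Nat.beq x 262) (threeOK x))))
    rng = true := by decide +kernel

theorem chk_s0 : ifB (memN s0c L0) (Nat.beq (app 9 511 s0c 262) 156) = true := by decide +kernel

/-- Orbits of the stabiliser of `156`. -/
noncomputable def o2OK (x : ℕ) : Bool :=
  orC (anyL (fun c => ifB (Nat.beq (app 9 511 c 156) 156) (Nat.beq (app 9 511 c 2) x)) L0)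
    (anyL (fun c => ifB (Nat.beq (app 9 511 c 156) 156) (ifB (Nat.beq (app 9 511 c x) x)
      (neB (app 9 511 c 2) 2))) L0)

theorem chk_O2 : allL o2OK rng = true := by decide +kernel

theorem chk_free : allL (fun c => orC (neB (app 9 511 c 156) 156) (orC (neB (app 9 511 c 2) 2) (Nat.beq c idc))) L0
    = true := by decide +kernel

/-- The elements of the group fixing `156` and `2` do not normalize. -/
noncomputable def rOK (c : ℕ) : Bool :=
  orC (Nat.beq c idc) <|
  force (Core.inv 275 9 511 c) fun d => ifB (Nat.beq (comp 275 9 511 d c) idc) <|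
  anyL (fun a => force (keyOf 9 511 kpts (comp 275 9 511 (comp 275 9 511 c a) d)) fun k =>
    allL (fun c' => neB (keyOf 9 511 kpts c') k) L0) sgens

theorem chk_R : allL rOK LR = true := by decide +kernel

theorem chk_chain : checkAll 275 9 511 d_L d_maskL d_idc Cfsg.Agent.Lib.McLStab.Data.h_gens d_prog d_levels = true := by
  decide +kernel

theorem ord_d : orderC d_levels = 3265920 := by decide +kernel

theorem chk_LR : memN idc LR = true := by decide +kernel

theorem chk_Rclos : closOK 275 9 511 LR d_lev2.gens = true := by decide +kernel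

/-! ### The Sylow subgroup -/

theorem ex_Z : ∃ g ∈ PP, RR zc g := by
  rw [← chk_wz]
  exact wc_rep wz (by decide +kernel)

/-- The central involution. -/
noncomputable def Z0 : QQ := Classical.choose ex_Z

theorem Z0_mem : Z0 ∈ PP := (Classical.choose_spec ex_Z).1
theorem Z0_rep : RR zc Z0 := (Classical.choose_spec ex_Z).2

theorem sgens_conj {a : ℕ} (ha : a ∈ sgens) : ∃ g ∈ PP, RR a (g * Z0 * g⁻¹) := by
  rw [chk_sg] at ha
  obtain ⟨e, he, rfl⟩ := List.mem_map.1 ha
  have h := (ifB_eq_true _ _).1 ((allL_eq_true _ _).1 chk_conj e he)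
  obtain ⟨g, hg, -, hr⟩ := cj_rep h.1 Z0_rep
  rw [Nat.eq_of_beq_eq_true h.2] at hr
  exact ⟨g, hg, hr⟩

theorem sgens_rep : ∀ a ∈ sgens, ∃ g ∈ PP, RR a g := by
  intro a ha
  obtain ⟨g, hg, hr⟩ := sgens_conj ha
  exact ⟨_, mul_mem (mul_mem hg Z0_mem) (inv_mem hg), hr⟩

/-- The Sylow subgroup. -/
noncomputable def S0 : Subgroup QQ := HH sgens

theorem S0_le : S0 ≤ PP := by
  apply (Subgroup.closure_le _).2
  rintro g ⟨c, hc, hg⟩
  obtain ⟨g', hg', hr⟩ := sgens_rep c hc
  rwa [hg.unique hr]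

theorem L0_eq : L0 = prodL 275 9 511 idc sgens := eqL_spec _ _ chk_L0

theorem L1 : ∀ c ∈ L0, ∃ g ∈ S0, RR c g := by
  rw [L0_eq]
  apply rep_prodL hm9 hid9
  intro a ha
  obtain ⟨g, -, hr⟩ := sgens_rep a ha
  exact ⟨g, hr⟩

theorem idc_L0 : idc ∈ L0 := by
  rw [L0_eq]
  have : ∀ gens : List ℕ, idc ∈ prodL 275 9 511 idc gens := by
    intro gens
    induction gens with
    | nil => simp [prodL]
    | cons a as ih =>
      rw [prodL, dbl]
      exact List.mem_append_left _ ih
  exact this _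

theorem L2 : ∀ g ∈ S0, ∃ c ∈ L0, RR c g := exists_code hm9 hid9 idc_L0 chk_clos

theorem kpts_lt : ∀ p ∈ kpts, p < 275 := by
  intro p hp
  simp only [kpts, List.mem_cons, List.not_mem_nil, or_false] at hp
  omega

theorem card_S0 : Nat.card S0 = 2 ^ 7 := by
  rw [S0, card_H_of_codes L1 L2 kpts_lt (nodupN_spec chk_key)]
  decide +kernel

theorem sgens_S0 : ∀ a ∈ sgens, ∃ A, A ∈ HH sgens ∧ RR a A := by
  intro a ha
  obtain ⟨g, -, hr⟩ := sgens_rep a ha
  exact ⟨g, H_of_rep ha hr, hr⟩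

theorem S0_ne : S0 ≠ ⊥ := by
  intro h
  have := card_S0
  rw [h, Subgroup.card_bot] at this
  omega

/-! ### Strong closure -/

theorem closed_S0 (T : Subgroup QQ) (hT : T ≤ S0) (hne : T ≠ ⊥)
    (hcl : ∀ x ∈ T, ∀ g ∈ PP, g * x * g⁻¹ ∈ S0 → g * x * g⁻¹ ∈ T) : T = S0 := by
  obtain ⟨Z, hZ, hrZ⟩ := z_mem hid9 (pts := rng) (fun p hp => mem_rng.1 hp) L2 sgens_S0 card_S0
    chk_cent hT hne (fun x hx r hr => hcl x hx r (S0_le hr)
      (S0.mul_mem (S0.mul_mem hr (hT hx)) (S0.inv_mem hr)))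
  obtain rfl : Z = Z0 := hrZ.unique Z0_rep
  apply le_antisymm hT
  apply (Subgroup.closure_le _).2
  rintro A ⟨a, ha, hr⟩
  obtain ⟨g, hg, hr'⟩ := sgens_conj ha
  have e : A = g * Z0 * g⁻¹ := hr.unique hr'
  have hAS : A ∈ S0 := H_of_rep ha hr
  rw [e] at hAS ⊢
  exact hcl Z0 hZ g hg hAS

/-! ### The normalizer -/

/-- `g` normalizes `S0`. -/
def NormS (g : QQ) : Prop := ∀ s ∈ S0, g * s * g⁻¹ ∈ S0

theorem NormS.inv {g : QQ} (h : NormS g) : NormS g⁻¹ := conj_inv_mem h

theorem NormS.mul_left {g s : QQ} (hs : s ∈ S0) (h : NormS g) : NormS (s * g) := by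
  intro x hx
  have h1 := S0.mul_mem (S0.mul_mem hs (h x hx)) (S0.inv_mem hs)
  have e : s * g * x * (s * g)⁻¹ = s * (g * x * g⁻¹) * s⁻¹ := by group
  rw [e]
  exact h1

/-- The fixed point. -/
def p0 : Fin 275 := ⟨0, by norm_num⟩
/-- The point `156`. -/
def p156 : Fin 275 := ⟨156, by norm_num⟩
/-- The point `262`. -/
def p262 : Fin 275 := ⟨262, by norm_num⟩
/-- The point `2`. -/
def p2 : Fin 275 := ⟨2, by norm_num⟩

theorem fix_S0 {s : QQ} (hs : s ∈ S0) : s p0 = p0 := by
  obtain ⟨c, hc, hr⟩ := L2 s hs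
  apply Fin.ext
  rw [rep_val hr]
  exact Nat.eq_of_beq_eq_true ((allL_eq_true _ _).1 chk_fix c hc)

theorem NormS.fix {g : QQ} (h : NormS g) : g p0 = p0 := by
  by_contra hne
  have hx : ((g p0 : Fin 275) : ℕ) ≠ 0 := fun e => hne (Fin.ext e)
  have h1 := (allL_eq_true _ _).1 chk_uniq (g p0 : Fin 275) (mem_rng.2 (Fin.is_lt _))
  rw [orC_eq_true] at h1
  rcases h1 with h1 | h1
  · exact hx (Nat.eq_of_beq_eq_true h1)
  · obtain ⟨a, ha, h2⟩ := (anyL_eq_true _ _).1 h1
    obtain ⟨A, hA, hr⟩ := sgens_S0 a ha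
    apply neB_spec h2
    have h3 := fix_S0 (h.inv A hA)
    have h4 : g⁻¹ * A * g⁻¹⁻¹ = g⁻¹ * A * g := by simp
    rw [h4] at h3
    have h3' : g⁻¹ (A (g p0)) = p0 := h3
    rw [Equiv.Perm.inv_eq_iff_eq] at h3'
    rw [← rep_val hr, h3']

theorem orbit_156 {s : QQ} (hs : s ∈ S0) : s p156 = p156 ∨ s p156 = p262 := by
  obtain ⟨c, hc, hr⟩ := L2 s hs
  have h1 := (allL_eq_true _ _).1 chk_B1 c hc
  rw [orC_eq_true] at h1
  rcases h1 with h1 | h1
  · left
    apply Fin.ext
    rw [rep_val hr]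
    exact Nat.eq_of_beq_eq_true h1
  · right
    apply Fin.ext
    rw [rep_val hr]
    exact Nat.eq_of_beq_eq_true h1

theorem NormS.block {g : QQ} (h : NormS g) : g p156 = p156 ∨ g p156 = p262 := by
  set x : Fin 275 := g p156 with hxdef
  have hfx := h.fix
  have hx0 : (x : ℕ) ≠ 0 := by
    intro e
    have h1 : g p156 = g p0 := by
      rw [hfx]
      exact Fin.ext e
    have := g.injective h1
    exact absurd this (by decide)
  have h1 := (allL_eq_true _ _).1 chk_B2 x (mem_rng.2 (Fin.is_lt _))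
  simp only [orC_eq_true] at h1
  rcases h1 with h1 | h1 | h1 | h1
  · exact absurd (Nat.eq_of_beq_eq_true h1) hx0
  · left
    exact Fin.ext (Nat.eq_of_beq_eq_true h1)
  · right
    exact Fin.ext (Nat.eq_of_beq_eq_true h1)
  · exfalso
    obtain ⟨c, hc, h2⟩ := (anyL_eq_true _ _).1 h1
    simp only [force_eq, ifB_eq_true] at h2
    obtain ⟨h3, h4⟩ := h2
    obtain ⟨d, hd, h5⟩ := (anyL_eq_true _ _).1 h4
    simp only [ifB_eq_true] at h5
    obtain ⟨h6, h7⟩ := h5
    obtain ⟨C, hC, hrC⟩ := L1 c hc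
    obtain ⟨D, hD, hrD⟩ := L1 d hd
    have image : ∀ s ∈ S0, s x = x ∨ s x = g p262 := by
      intro s hs
      have h8 := h.inv s hs
      have h9 : g⁻¹ * s * g⁻¹⁻¹ = g⁻¹ * s * g := by simp
      rw [h9] at h8
      have h10 : s x = g ((g⁻¹ * s * g) p156) := by
        simp [hxdef]
      rw [h10]
      rcases orbit_156 h8 with h11 | h11
      · left
        rw [h11]
      · right
        rw [h11]
    have hCx : C x ≠ x := by
      intro e
      apply neB_spec h3
      rw [← rep_val hrC, e]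
    have hDx : D x ≠ x := by
      intro e
      apply neB_spec h6
      rw [← rep_val hrD, e]
    have hCD : C x ≠ D x := by
      intro e
      apply neB_spec h7
      rw [← rep_val hrC, ← rep_val hrD, e]
    rcases image C hC with h8 | h8
    · exact hCx h8
    · rcases image D hD with h9 | h9
      · exact hDx h9
      · exact hCD (h8.trans h9.symm)

theorem exists_step1 {g : QQ} (h : NormS g) : ∃ s ∈ S0, (s * g) p156 = p156 := by
  rcases h.block with h1 | h1
  · exact ⟨1, one_mem _, by simpa using h1⟩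
  · obtain ⟨h2, h3⟩ := (ifB_eq_true _ _).1 chk_s0
    obtain ⟨s, hs, hr⟩ := L1 _ ((memN_eq_true _ _).1 h2)
    refine ⟨s, hs, ?_⟩
    show s (g p156) = p156
    rw [h1]
    apply Fin.ext
    rw [rep_val hr]
    exact Nat.eq_of_beq_eq_true h3

theorem free_S0 {s : QQ} (hs : s ∈ S0) (h1 : s p156 = p156) (h2 : s p2 = p2) : s = 1 := by
  obtain ⟨c, hc, hr⟩ := L2 s hs
  have h3 := (allL_eq_true _ _).1 chk_free c hc
  simp only [orC_eq_true] at h3
  rcases h3 with h3 | h3 | h3
  · exfalso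
    apply neB_spec h3
    have h4 := rep_val hr p156
    rw [h1] at h4
    exact h4.symm
  · exfalso
    apply neB_spec h3
    have h4 := rep_val hr p2
    rw [h2] at h4
    exact h4.symm
  · exact hr.eq_one hid9 (Nat.eq_of_beq_eq_true h3)

theorem exists_step2 {g : QQ} (h : NormS g) (hf : g p156 = p156) :
    ∃ k ∈ S0, k p156 = p156 ∧ k p2 = g p2 := by
  set x : Fin 275 := g p2 with hxdef
  have h1 := (allL_eq_true _ _).1 chk_O2 x (mem_rng.2 (Fin.is_lt _))
  simp only [o2OK, orC_eq_true] at h1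
  rcases h1 with h1 | h1
  · obtain ⟨c, hc, h2⟩ := (anyL_eq_true _ _).1 h1
    simp only [ifB_eq_true] at h2
    obtain ⟨h3, h4⟩ := h2
    obtain ⟨C, hC, hr⟩ := L1 c hc
    refine ⟨C, hC, ?_, ?_⟩
    · apply Fin.ext
      rw [rep_val hr]
      exact Nat.eq_of_beq_eq_true h3
    · apply Fin.ext
      rw [rep_val hr]
      exact Nat.eq_of_beq_eq_true h4
  · exfalso
    obtain ⟨c, hc, h2⟩ := (anyL_eq_true _ _).1 h1
    simp only [ifB_eq_true] at h2
    obtain ⟨h3, h4, h5⟩ := h2
    obtain ⟨C, hC, hr⟩ := L1 c hc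
    have hC1 : C p156 = p156 := by
      apply Fin.ext
      rw [rep_val hr]
      exact Nat.eq_of_beq_eq_true h3
    have hCx : C x = x := by
      apply Fin.ext
      rw [rep_val hr]
      exact Nat.eq_of_beq_eq_true h4
    have h6 := h.inv C hC
    have h7 : g⁻¹ * C * g⁻¹⁻¹ = g⁻¹ * C * g := by simp
    rw [h7] at h6
    have h8 : g⁻¹ * C * g = 1 := by
      apply free_S0 h6
      · show g⁻¹ (C (g p156)) = p156
        rw [hf, hC1, Equiv.Perm.inv_eq_iff_eq, hf]
      · show g⁻¹ (C (g p2)) = p2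
        rw [← hxdef, hCx, hxdef]
        simp
    have h9 : C = 1 := by
      have : C = g * (g⁻¹ * C * g) * g⁻¹ := by group
      rw [this, h8]
      simp
    apply neB_spec h5
    have h10 := rep_val hr p2
    rw [h9] at h10
    exact h10.symm

/-- One step down a chain. -/
theorem descend {L maskL : ℕ} {l : Lev} {ls : List Lev} (h : LevelSem 9 511 (Equiv.refl (Fin 275)) L maskL l ls)
    {b' : Fin 275} (hb : (b' : ℕ) = l.base) {g : QQ} (hg : g ∈ HH l.gens) (hf : g b' = b') :
    g ∈ HH (topGens ls) := by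
  obtain ⟨b, u, hbe, hub, htab, -, -, -, -, hKb, hfact⟩ := h
  have hbb : b = b' := Fin.ext (hbe.trans hb.symm)
  subst hbb
  obtain ⟨a, ha, k, hk, rfl⟩ := hfact g hg
  have h1 : (u a * k) b = a := by
    rw [Equiv.Perm.mul_apply, hKb k hk]
    exact (htab a ha).2.1
  have hab : a = b := h1.symm.trans hf
  subst hab
  rw [hub, one_mul]
  exact hk

/-- The stabiliser of `156` and `2` in the stabiliser of `0`. -/
theorem mem_R {g : QQ} (hg : g ∈ PP) (h0 : g p0 = p0) (h1 : g p156 = p156) (h2 : g p2 = p2) :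
    g ∈ HH d_lev2.gens := by
  have hmain := main_of_checkAll (w := 9) (mask := 511) (e := Equiv.refl (Fin 275)) (L := d_L) (maskL := d_maskL)
    (idc := d_idc) (T := Cfsg.Agent.Lib.McLStab.Data.h_gens) (prog := d_prog) (ls := d_levels)
    (fun c hc => (gens_rep c hc).imp fun g hg => hg.2) chk_chain
  obtain ⟨-, -, -, hsem, heq, hcard⟩ := hmain
  have hcard' : Nat.card H1 = 3265920 := by
    rw [hcard, ord_d]
  have h3 : g ∈ HH Cfsg.Agent.Lib.McLStab.Data.h_gens := hstab_of_card hcard' g hg h0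
  rw [heq] at h3
  have hs : Sem 9 511 (Equiv.refl (Fin 275)) d_L d_maskL
      (d_lev0 :: d_lev1 :: d_lev2 :: d_lev3 :: d_lev4 :: []) := hsem
  obtain ⟨s0, s1, -⟩ := hs
  have h4 : g ∈ HH (topGens (d_lev1 :: d_lev2 :: d_lev3 :: d_lev4 :: [])) := descend s0 rfl h3 h1
  exact descend s1 rfl h4 h2

theorem self_norm {g : QQ} (hg : g ∈ PP) (hN : NormS g) : g ∈ S0 := by
  obtain ⟨s, hs, h1⟩ := exists_step1 hN
  have hN1 : NormS (s * g) := hN.mul_left hs
  obtain ⟨k, hk, hk1, hk2⟩ := exists_step2 hN1 h1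
  have hN2 : NormS (k⁻¹ * (s * g)) := hN1.mul_left (S0.inv_mem hk)
  set g2 : QQ := k⁻¹ * (s * g) with hg2
  have hg2P : g2 ∈ PP := mul_mem (inv_mem (S0_le hk)) (mul_mem (S0_le hs) hg)
  have f1 : g2 p156 = p156 := by
    show k⁻¹ ((s * g) p156) = p156
    rw [h1, Equiv.Perm.inv_eq_iff_eq, hk1]
  have f2 : g2 p2 = p2 := by
    show k⁻¹ ((s * g) p2) = p2
    rw [Equiv.Perm.inv_eq_iff_eq, hk2]
  have hR := mem_R hg2P hN2.fix f1 f2
  have hidR : idc ∈ LR := (memN_eq_true _ _).1 chk_LR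
  obtain ⟨c, hc, hr⟩ := exists_code hm9 hid9 hidR chk_Rclos g2 hR
  have h3 := (allL_eq_true _ _).1 chk_R c hc
  simp only [rOK, orC_eq_true, force_eq, ifB_eq_true] at h3
  have hg2one : g2 = 1 := by
    rcases h3 with h3 | ⟨h3, h4⟩
    · exact hr.eq_one hid9 (Nat.eq_of_beq_eq_true h3)
    · exfalso
      have hinv : RR (Core.inv 275 9 511 c) g2⁻¹ := Rep.inv hm9 hid9 hr (Nat.eq_of_beq_eq_true h3)
      obtain ⟨a, ha, h5⟩ := (anyL_eq_true _ _).1 h4
      obtain ⟨A, hA, hrA⟩ := sgens_S0 a ha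
      have h6 := hN2 A hA
      obtain ⟨c', hc', hr'⟩ := L2 _ h6
      have h7 := (allL_eq_true _ _).1 h5 c' hc'
      apply neB_spec h7
      exact key_eq_of_rep hr' ((hr.comp hm9 hrA).comp hm9 hinv) kpts_lt
  have e : g = s⁻¹ * (k * g2) := by
    rw [hg2]
    group
  rw [e, hg2one, mul_one]
  exact S0.mul_mem (S0.inv_mem hs) hk

/-- The `2`-fusion system of a group isomorphic to `McL` is simple. -/
theorem simple_McL' {G : Type*} [Group G] [Finite G] (hG : Cfsg.Spor.IsoMcL G) (S : Sylow 2 G) :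
    (groupFusionSystem (S : Subgroup G)).IsSimple 2 := by
  obtain ⟨f⟩ := hG
  obtain ⟨e⟩ := iso_PP
  exact simple_of_equiv PP S0 S0_le (k := 7) (m := 7016625) card_S0 (by rw [card_PP]; norm_num) (by decide)
    S0_ne (fun g hg hn => self_norm hg hn) closed_S0 (f.trans e) S

end Cfsg.Agent.Lib.McLFus
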